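import Groth.Agent.Lib.Exchange.PicSmooth.Retract
import Groth.Agent.Lib.Exchange.PicLift.Lift
import Groth.Agent.H95.Torsor.Adic
import Groth.Agent.Lib.AlgSpFormal.UnivDesc

/-!
# Etale local lifts and their descent; lifting invertible modules over Artinian rings
-/

set_option autoImplicit false
set_option linter.style.haveILetI false
universe u
open CategoryTheory CategoryTheory.Limits AlgebraicGeometry

namespace Groth.Agent.Lib.Exchange.PicSmooth.Lifts

open Groth.Agent Groth.Agent.Lib Groth.Agent.Lib.Exchange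

theorem subsingleton_spec (R : Type u) [CommRing R] [IsLocalRing R] [IsArtinianRing R] :
    Subsingleton (PrimeSpectrum R) :=
  ⟨fun P Q => PrimeSpectrum.ext (by
    rw [IsLocalRing.eq_maximalIdeal (Ideal.IsPrime.isMaximal' P.isPrime),
      IsLocalRing.eq_maximalIdeal (Ideal.IsPrime.isMaximal' Q.isPrime)])⟩

theorem surjective_spec_map {R R' : CommRingCat.{u}} (φ : R ⟶ R') [Subsingleton (PrimeSpectrum R)]
    [Nontrivial R'] : Surjective (Spec.map φ) := by
  obtain ⟨P⟩ := (inferInstance : Nonempty (PrimeSpectrum R'))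
  exact ⟨fun Q => ⟨P, Subsingleton.elim (α := PrimeSpectrum R) _ _⟩⟩

/-- Invertible modules lift over quotients of local Artinian rings when `H²(O) = 0` on the closed fibre. -/
theorem exists_lift_artin {R R' : CommRingCat.{u}} [IsLocalRing R] [IsArtinianRing R] [Nontrivial R']
    (π : R ⟶ R') (hπ : Function.Surjective π) {K : Type u} [Field K]
    (ψ : R' ⟶ CommRingCat.of K) (hψ : Function.Surjective ψ)
    {X Z Z₀ : Scheme.{u}} (p : X ⟶ Spec R) [Flat p] (q : Z ⟶ Spec R') (i : Z ⟶ X)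
    (hcart : IsPullback i q p (Spec.map π)) (p₀ : Z₀ ⟶ Spec (CommRingCat.of K)) [IsSeparated p₀]
    (j : Z₀ ⟶ Z) (hj : IsPullback j p₀ q (Spec.map ψ))
    (h2 : Subsingleton (Coh.HH Z₀ (Coh.structureModule Z₀) 2))
    {L₀ : Z.Modules} (hL₀ : PicF.IsInvertible L₀) :
    ∃ L : X.Modules, PicF.IsInvertible L ∧ Nonempty ((Scheme.Modules.pullback i).obj L ≅ L₀) := by
  have hj' : IsPullback (j ≫ i) p₀ p (Spec.map (π ≫ ψ)) := by
    rw [Spec.map_comp]
    exact hj.paste_horiz hcart
  have hπψ : Function.Surjective (π ≫ ψ) := hψ.comp hπ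
  have hi₀ := H95.Torsor.cuts_of_isPullback (π ≫ ψ) hπψ hj'
  have hker : RingHom.ker (π ≫ ψ).hom = IsLocalRing.maximalIdeal R :=
    IsLocalRing.eq_maximalIdeal (RingHom.ker_isMaximal_of_surjective (π ≫ ψ).hom hπψ)
  rw [hker] at hi₀
  have hi := H95.Torsor.cuts_of_isPullback π hπ hcart
  have hne : RingHom.ker π.hom ≠ ⊤ := RingHom.ker_ne_top _
  haveI := hi.closed
  haveI := subsingleton_spec R
  haveI : Surjective i := MorphismProperty.of_isPullback (P := @Surjective) hcart.flip (surjective_spec_map π)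
  haveI : Surjective (j ≫ i) :=
    MorphismProperty.of_isPullback (P := @Surjective) hj'.flip (surjective_spec_map (π ≫ ψ))
  haveI : IsClosedImmersion (j ≫ i) := hi₀.closed
  haveI : IsClosedImmersion j := IsClosedImmersion.of_comp j i
  haveI : Surjective j := ⟨fun z => by
    obtain ⟨w, hw⟩ := (j ≫ i).surjective (i z)
    exact ⟨w, i.isClosedEmbedding.injective hw⟩⟩
  haveI : Z₀.IsSeparated := ⟨by
    haveI : IsSeparated (p₀ ≫ terminal.from (Spec (CommRingCat.of K))) := inferInstance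
    rwa [terminal.comp_from] at this⟩
  exact PicLift.exists_lift i j
    (H95.Units.subsingleton_H_K hi₀ 2 h2 hi (IsLocalRing.le_maximalIdeal hne)) hL₀

variable {B' B : Type u} [CommRing B'] [CommRing B] [IsLocalRing B'] [IsArtinianRing B'] [IsLocalRing B]

/-- A finite flat local neighbourhood below an etale one. -/
theorem exists_nbhd (φ : B' →+* B) (hφ : Function.Surjective φ)
    (hsq : ∀ a ∈ RingHom.ker φ, ∀ b ∈ RingHom.ker φ, a * b = 0)
    {W : Scheme.{u}} (w : W ⟶ Spec (CommRingCat.of B)) [Etale w] (z : W) :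
    ∃ (C : Type u) (_ : CommRing C) (_ : IsLocalRing C) (_ : Algebra B' C) (_ : Module.Finite B' C)
      (_ : Module.Flat B' C) (ψ : B →+* C ⧸ (RingHom.ker φ).map (algebraMap B' C))
      (m : Spec (CommRingCat.of (C ⧸ (RingHom.ker φ).map (algebraMap B' C))) ⟶ W),
      ψ.comp φ = (Ideal.Quotient.mk _).comp (algebraMap B' C) ∧ m ≫ w = Spec.map (CommRingCat.ofHom ψ) := by
  let t := Spec.map (CommRingCat.ofHom φ)
  haveI : IsClosedImmersion t := IsClosedImmersion.spec_of_surjective _ hφ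
  have hI : RingHom.ker t.appTop.hom ^ 2 = ⊥ := by
    rw [pow_two, ← le_bot_iff, Ideal.mul_le]
    intro a ha b hb
    let e := (Scheme.ΓSpecIso (CommRingCat.of B'))
    have key : ∀ a, t.appTop.hom a = 0 → φ (e.hom a) = 0 := fun a ha => by
      have h := congr($(Scheme.ΓSpecIso_naturality (CommRingCat.ofHom φ)) a)
      change (Scheme.ΓSpecIso (CommRingCat.of B)).hom (t.appTop a) = φ (e.hom a) at h
      rw [← h]
      exact (congrArg _ ha).trans (map_zero _)
    have h0 := hsq _ (RingHom.mem_ker.2 (key a ha)) _ (RingHom.mem_ker.2 (key b hb))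
    rw [Ideal.mem_bot]
    apply (ConcreteCategory.bijective_of_isIso e.hom).1
    rw [map_mul, map_zero]
    exact h0
  obtain ⟨B₁, e, he, m₀, hm₀, v, -⟩ := AlgSpFormal.UnivDesc.exists_etale_lift' t hI w z
  let θ : CommRingCat.of B' ⟶ B₁ := Spec.preimage e
  have hθ : Spec.map θ = e := Spec.map_preimage e
  letI : Algebra B' B₁ := θ.hom.toAlgebra
  haveI : Algebra.Etale B' B₁ := by
    rw [← hθ] at he
    have := (HasRingHomProperty.Spec_iff (P := @Etale)).1 he
    exact this
  haveI : Module.Finite B' B₁ := Module.Finite.of_quasiFinite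
  haveI : IsArtinianRing B₁ := IsArtinianRing.of_finite B' _
  let n : PrimeSpectrum B₁ := pullback.snd t e v
  let C : Type u := Localization.AtPrime n.asIdeal
  haveI : Module.Finite B₁ C :=
    Module.Finite.of_surjective (Algebra.linearMap B₁ C) (IsArtinianRing.localization_surjective n.asIdeal.primeCompl _)
  haveI : Module.Finite B' C := Module.Finite.trans B₁ C
  haveI : Module.Flat B₁ C := IsLocalization.flat C n.asIdeal.primeCompl
  haveI : Module.Flat B' C := Module.Flat.trans B' B₁ C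
  let J := (RingHom.ker φ).map (algebraMap B' C)
  let ψ : B →+* C ⧸ J := φ.liftOfSurjective hφ ⟨(Ideal.Quotient.mk J).comp (algebraMap B' C), fun a ha => by
    rw [RingHom.mem_ker, RingHom.comp_apply, Ideal.Quotient.eq_zero_iff_mem]
    exact Ideal.mem_map_of_mem _ ha⟩
  have hψ : ψ.comp φ = (Ideal.Quotient.mk J).comp (algebraMap B' C) := RingHom.liftOfSurjective_comp _ _ _
  let l : Spec (CommRingCat.of (C ⧸ J)) ⟶ pullback t e :=
    pullback.lift (Spec.map (CommRingCat.ofHom ψ))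
      (Spec.map (CommRingCat.ofHom ((Ideal.Quotient.mk J).comp (algebraMap B₁ C)))) (by
      rw [← hθ, ← Spec.map_comp, ← Spec.map_comp]
      exact congrArg Spec.map (CommRingCat.hom_ext hψ))
  refine ⟨C, inferInstance, inferInstance, inferInstance, inferInstance, inferInstance, ψ, l ≫ m₀, hψ, ?_⟩
  rw [Category.assoc, hm₀]
  exact pullback.lift_fst _ _ _

/-- **Descent of a lifting** of a point. -/
theorem exists_descend (φ : B' →+* B) (hφ : Function.Surjective φ)
    (hsq : ∀ a ∈ RingHom.ker φ, ∀ b ∈ RingHom.ker φ, a * b = 0)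
    {C : Type u} [CommRing C] [IsLocalRing C] [Algebra B' C] [Module.Finite B' C] [Module.Flat B' C]
    (ψ : B →+* C ⧸ (RingHom.ker φ).map (algebraMap B' C))
    (hψ : ψ.comp φ = (Ideal.Quotient.mk _).comp (algebraMap B' C))
    {P S : Scheme.{u}} (f : P ⟶ S) (α : Spec (CommRingCat.of B) ⟶ P) (β : Spec (CommRingCat.of B') ⟶ S)
    (hαβ : Spec.map (CommRingCat.ofHom φ) ≫ β = α ≫ f)
    (γ : Spec (CommRingCat.of C) ⟶ P)
    (hγf : γ ≫ f = Spec.map (CommRingCat.ofHom (algebraMap B' C)) ≫ β)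
    (hγα : Spec.map (CommRingCat.ofHom (Ideal.Quotient.mk _)) ≫ γ = Spec.map (CommRingCat.ofHom ψ) ≫ α) :
    ∃ δ : Spec (CommRingCat.of B') ⟶ P, Spec.map (CommRingCat.ofHom φ) ≫ δ = α ∧ δ ≫ f = β := by
  haveI := subsingleton_spec B'
  haveI : IsArtinianRing B := hφ.isArtinianRing
  haveI := subsingleton_spec B
  haveI : IsArtinianRing C := IsArtinianRing.of_finite B' _
  haveI := subsingleton_spec C
  let p : P := α (IsLocalRing.closedPoint B)
  obtain ⟨U₀, hU₀, hpU₀, -⟩ := exists_isAffineOpen_mem_and_subset (U := ⊤) (x := f p) trivial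
  obtain ⟨V, hV, hpV, hVU⟩ := exists_isAffineOpen_mem_and_subset (U := f ⁻¹ᵁ U₀) (x := p) hpU₀
  haveI := hU₀.isOpenImmersion_fromSpec
  haveI := hV.isOpenImmersion_fromSpec
  have hα : Set.range α ⊆ Set.range hV.fromSpec := by
    rw [hV.range_fromSpec]
    rintro _ ⟨x, rfl⟩
    rw [Subsingleton.elim (α := PrimeSpectrum B) x (IsLocalRing.closedPoint B)]
    exact hpV
  have hβ : Set.range β ⊆ Set.range hU₀.fromSpec := by
    rw [hU₀.range_fromSpec]
    rintro _ ⟨x, rfl⟩
    rw [Subsingleton.elim (α := PrimeSpectrum B') x (Spec.map (CommRingCat.ofHom φ) (IsLocalRing.closedPoint B))]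
    exact (congr($hαβ (IsLocalRing.closedPoint B))).symm ▸ hpU₀
  haveI : Nontrivial (C ⧸ (RingHom.ker φ).map (algebraMap B' C)) := by
    refine Ideal.Quotient.nontrivial_iff.2 fun htop => ?_
    have h0 : RingHom.ker φ * RingHom.ker φ = ⊥ := le_bot_iff.1 (Ideal.mul_le.2 fun a ha b hb => by
      rw [Ideal.mem_bot]; exact hsq a ha b hb)
    have := congrArg (fun I : Ideal C => I * I) htop
    simp only [← Ideal.map_mul, h0, Ideal.map_bot, Ideal.top_mul] at this
    exact bot_ne_top this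
  obtain ⟨c⟩ : Nonempty (PrimeSpectrum (C ⧸ (RingHom.ker φ).map (algebraMap B' C))) := inferInstance
  have hγ : Set.range γ ⊆ Set.range hV.fromSpec := by
    rw [hV.range_fromSpec]
    rintro _ ⟨x, rfl⟩
    rw [Subsingleton.elim (α := PrimeSpectrum C) x (Spec.map (CommRingCat.ofHom (Ideal.Quotient.mk _)) c)]
    show γ _ ∈ (V : Set P)
    have := congr($hγα c)
    simp only [Scheme.Hom.comp_apply] at this
    rw [this]
    have hc : Spec.map (CommRingCat.ofHom ψ) c = IsLocalRing.closedPoint B :=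
      Subsingleton.elim (α := PrimeSpectrum B) _ _
    exact hc.symm ▸ hpV
  obtain ⟨a, ha⟩ : ∃ a : Γ(P, V) ⟶ CommRingCat.of B, Spec.map a ≫ hV.fromSpec = α :=
    ⟨Spec.preimage (IsOpenImmersion.lift _ α hα), by rw [Spec.map_preimage, IsOpenImmersion.lift_fac]⟩
  obtain ⟨b, hb⟩ : ∃ b : Γ(S, U₀) ⟶ CommRingCat.of B', Spec.map b ≫ hU₀.fromSpec = β :=
    ⟨Spec.preimage (IsOpenImmersion.lift _ β hβ), by rw [Spec.map_preimage, IsOpenImmersion.lift_fac]⟩
  obtain ⟨g₁, hg₁⟩ : ∃ g₁ : Γ(P, V) ⟶ CommRingCat.of C, Spec.map g₁ ≫ hV.fromSpec = γ :=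
    ⟨Spec.preimage (IsOpenImmersion.lift _ γ hγ), by rw [Spec.map_preimage, IsOpenImmersion.lift_fac]⟩
  let F := f.appLE U₀ V hVU
  have hF : Spec.map F ≫ hU₀.fromSpec = hV.fromSpec ≫ f := IsAffineOpen.SpecMap_appLE_fromSpec f hU₀ hV hVU
  have h1 : F ≫ g₁ = b ≫ CommRingCat.ofHom (algebraMap B' C) := by
    apply Spec.map_injective
    rw [← cancel_mono hU₀.fromSpec, Spec.map_comp, Spec.map_comp, Category.assoc, Category.assoc, hb, hF,
      ← Category.assoc, hg₁, hγf]
  have h2 : g₁ ≫ CommRingCat.ofHom (Ideal.Quotient.mk _) = a ≫ CommRingCat.ofHom ψ := by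
    apply Spec.map_injective
    rw [← cancel_mono hV.fromSpec, Spec.map_comp, Spec.map_comp, Category.assoc, Category.assoc, hg₁, ha, hγα]
  obtain ⟨ρ, hρ⟩ := Retract.exists_retraction (B := B') (C := C)
  obtain ⟨g, hg, hg'⟩ := Retract.exists_hom_of_retraction φ hφ hsq a.hom g₁.hom ρ hρ fun s x hx => by
    rw [← Ideal.Quotient.mk_eq_mk_iff_sub_mem]
    refine (congr($h2 s)).trans ?_
    change ψ (a s) = _
    rw [show a s = φ x from hx.symm]
    exact RingHom.congr_fun hψ x
  refine ⟨Spec.map (CommRingCat.ofHom g) ≫ hV.fromSpec, ?_, ?_⟩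
  · rw [← Category.assoc, ← Spec.map_comp, ← CommRingCat.ofHom_comp, hg, CommRingCat.ofHom_hom]
    exact ha
  · rw [Category.assoc, ← hF, ← Category.assoc, ← Spec.map_comp, ← hb]
    refine congrArg (fun k => Spec.map k ≫ hU₀.fromSpec) (CommRingCat.hom_ext (RingHom.ext fun r => ?_))
    exact hg' (F r) (b r) (congr($h1 r))

end Groth.Agent.Lib.Exchange.PicSmooth.Lifts
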