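import Mathlib

/-!
# Descent of liftings along a split ring extension
-/

set_option autoImplicit false
universe u

namespace Groth.Agent.Lib.Exchange.PicSmooth.Retract

/-- A nontrivial finite flat algebra over a local Artinian ring retracts onto it. -/
theorem exists_retraction {B C : Type u} [CommRing B] [IsLocalRing B] [IsArtinianRing B] [CommRing C]
    [Algebra B C] [Module.Finite B C] [Module.Flat B C] [Nontrivial C] :
    ∃ ρ : C →ₗ[B] B, ρ 1 = 1 := by
  haveI : Module.Free B C := Module.free_of_flat_of_isLocalRing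
  let b := Module.Free.chooseBasis B C
  haveI : Finite (Module.Free.ChooseBasisIndex B C) := inferInstance
  letI := Fintype.ofFinite (Module.Free.ChooseBasisIndex B C)
  obtain ⟨i, hi⟩ : ∃ i, IsUnit (b.repr 1 i) := by
    by_contra h
    push Not at h
    have h1 : (1 : C) ∈ (IsLocalRing.maximalIdeal B).map (algebraMap B C) := by
      rw [← b.sum_repr 1]
      refine Submodule.sum_mem _ fun i _ => ?_
      rw [Algebra.smul_def]
      exact Ideal.mul_mem_right _ _ (Ideal.mem_map_of_mem _ (h i))
    have hnil : IsNilpotent ((IsLocalRing.maximalIdeal B).map (algebraMap B C)) := by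
      obtain ⟨n, hn⟩ : IsNilpotent (IsLocalRing.maximalIdeal B) := by
        rw [← IsLocalRing.jacobson_eq_maximalIdeal ⊥ bot_ne_top]
        exact IsArtinianRing.isNilpotent_jacobson_bot
      exact ⟨n, by rw [← Ideal.map_pow, hn, Ideal.zero_eq_bot, Ideal.map_bot, Ideal.zero_eq_bot]⟩
    obtain ⟨n, hn⟩ := hnil
    have : (1 : C) ^ n ∈ ((IsLocalRing.maximalIdeal B).map (algebraMap B C)) ^ n := Ideal.pow_mem_pow h1 n
    rw [hn, one_pow, Ideal.zero_eq_bot, Ideal.mem_bot] at this
    exact one_ne_zero this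
  refine ⟨(hi.unit⁻¹ : Bˣ).val • b.coord i, ?_⟩
  rw [LinearMap.smul_apply, Module.Basis.coord_apply, smul_eq_mul]
  exact hi.val_inv_mul

/-- **Descent of a lifting** along a split extension of the target. -/
theorem exists_hom_of_retraction {S B' B C : Type u} [CommRing S] [CommRing B'] [CommRing B] [CommRing C]
    [Algebra B' C] (φ : B' →+* B) (hφ : Function.Surjective φ)
    (hsq : ∀ a ∈ RingHom.ker φ, ∀ b ∈ RingHom.ker φ, a * b = 0)
    (g₀ : S →+* B) (γ : S →+* C) (ρ : C →ₗ[B'] B') (hρ : ρ 1 = 1)
    (hγ : ∀ s b, φ b = g₀ s → γ s - algebraMap B' C b ∈ (RingHom.ker φ).map (algebraMap B' C)) :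
    ∃ g : S →+* B', φ.comp g = g₀ ∧ ∀ s b, γ s = algebraMap B' C b → g s = b := by
  let J := (RingHom.ker φ).map (algebraMap B' C)
  have hρb : ∀ b, ρ (algebraMap B' C b) = b := fun b => by
    rw [Algebra.algebraMap_eq_smul_one, map_smul, hρ, smul_eq_mul, mul_one]
  have hρJ : ∀ x ∈ J, ρ x ∈ RingHom.ker φ := fun x hx => by
    suffices hc : ∀ c : C, ρ (c * x) ∈ RingHom.ker φ by simpa using hc 1
    refine Submodule.span_induction (p := fun x _ => ∀ c : C, ρ (c * x) ∈ RingHom.ker φ) ?_ ?_ ?_ ?_ hx
    · rintro _ ⟨a, ha, rfl⟩ c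
      rw [mul_comm, ← Algebra.smul_def, map_smul, smul_eq_mul]
      exact Ideal.mul_mem_right _ _ ha
    · intro c
      rw [mul_zero, map_zero]
      exact Submodule.zero_mem _
    · intro y z _ _ hy hz c
      rw [mul_add, map_add]
      exact Submodule.add_mem _ (hy c) (hz c)
    · intro d y _ hy c
      rw [smul_eq_mul, ← mul_assoc]
      exact hy (c * d)
  have hJJ : ∀ x ∈ J, ∀ y ∈ J, x * y = 0 := fun x hx y hy => by
    have h0 : RingHom.ker φ * RingHom.ker φ = ⊥ := le_bot_iff.1 (Ideal.mul_le.2 fun a ha b hb => by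
      rw [Ideal.mem_bot]; exact hsq a ha b hb)
    have : J * J = ⊥ := by rw [← Ideal.map_mul, h0, Ideal.map_bot]
    exact Ideal.mem_bot.1 (this ▸ Ideal.mul_mem_mul hx hy)
  have hlift : ∀ s, ∃ b, φ b = g₀ s := fun s => hφ _
  have key : ∀ s, φ (ρ (γ s)) = g₀ s := fun s => by
    obtain ⟨b, hb⟩ := hlift s
    have h : ρ (γ s) - b ∈ RingHom.ker φ := by
      have := hρJ _ (hγ s b hb)
      rwa [map_sub, hρb] at this
    rw [RingHom.mem_ker, map_sub, sub_eq_zero] at h
    rw [h, hb]
  let g : S →+* B' :=
    { toFun := fun s => ρ (γ s)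
      map_one' := by rw [map_one, hρ]
      map_zero' := by rw [map_zero, map_zero]
      map_add' := fun s t => by rw [map_add, map_add]
      map_mul' := fun s t => by
        obtain ⟨a, ha⟩ := hlift s
        obtain ⟨b, hb⟩ := hlift t
        have hs := hγ s a ha
        have ht := hγ t b hb
        have h1 := hρJ _ hs
        have h2 := hρJ _ ht
        rw [map_sub, hρb] at h1 h2
        have hst : γ (s * t) = algebraMap B' C (a * b) + a • (γ t - algebraMap B' C b) +
            b • (γ s - algebraMap B' C a) := by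
          have h0 := hJJ _ hs _ ht
          rw [map_mul, Algebra.smul_def, Algebra.smul_def, map_mul]
          linear_combination h0
        have h12 := hsq _ h1 _ h2
        rw [hst, map_add, map_add, map_smul, map_smul, map_sub, map_sub, hρb, hρb, hρb, smul_eq_mul,
          smul_eq_mul]
        linear_combination -h12 }
  refine ⟨g, RingHom.ext key, fun s b h => ?_⟩
  change ρ (γ s) = b
  rw [h, hρb]

end Groth.Agent.Lib.Exchange.PicSmooth.Retract
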